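import Groth.Agent.H10Coh.Pn.Top
import Groth.Agent.H11Tilde.TwistTensor

/-!
# Morphisms between twisting sheaves on projective space
-/

universe u

open CategoryTheory AlgebraicGeometry TopologicalSpace Opposite MvPolynomial
open Groth.Agent.H11Tilde Groth.Agent.H10Coh.Pn

namespace Groth.Agent.H17.PnDual

variable {n : ℕ} {R : Type u} [CommRing R] {a b c : ℤ}

theorem mul_T_coeff (z : L n R) (e f : Expo n) : (z * T e).coeff (f + e) = z.coeff f := by
  classical
  rw [T, AddMonoidAlgebra.coeff_mul_single_apply]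
  simp

theorem mul_T_mem {S : Set (Fin (n + 1))} {z : L n R} (hz : z ∈ allowedSub R a S) (e : Expo n)
    (he : deg e = b) (hes : ∀ i, i ∉ S → 0 ≤ e i) : z * T e ∈ allowedSub R (a + b) S := by
  intro f hf
  have h : z.coeff (f + -e) ≠ 0 := by
    rw [← mul_T_coeff z e (f + -e), neg_add_cancel_right]; exact hf
  obtain ⟨h1, h2⟩ := hz _ h
  rw [deg_add, deg_neg, he] at h1
  refine ⟨by omega, fun i hi => ?_⟩
  have h3 := h2 i hi
  have h4 := hes i hi
  simp at h3
  omega

theorem isRep_mulSec (h : c = a + b) {U : (Proj (Gr n R)).Opens} {σ : Γ(Od n R a, U)} {τ : Γ(Od n R b, U)}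
    {z w : L n R} (hσ : IsRep σ z) (hτ : IsRep τ w) :
    IsRep (mulSec (Gr n R) (Gr n R) h σ τ) (z * w) := by
  obtain ⟨i, m, q, hq, hm, hd, rfl, hv⟩ := hσ
  obtain ⟨i', m', q', hq', hm', hd', rfl, hv'⟩ := hτ
  have hne : ∀ x ∈ U, mon (q' + q) ∉ x.asHomogeneousIdeal := fun x hx => by
    rw [← mon_mul]; exact mul_notMem (Gr n R) (hq' x hx) (hq x hx)
  refine ⟨i' + i, m' * m, q' + q, hne, SetLike.mul_mem_graded hm' hm, ?_, ?_, fun x => ?_⟩
  · simp only [map_add, Nat.cast_add]; omega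
  · rw [map_mul, map_add, neg_add_rev, ← T_mul]; ring
  · rw [sval_mulSec, hv x, hv' x, smul_fracAt]
    exact fracAt_congr (Gr n R) x.1 _ _ rfl (mon_mul q' q)

theorem psi_mulSec (h : c = a + b) {q₀ : Fin (n + 1) →₀ ℕ} (hpos : 0 < q₀.degree)
    (σ : Γ(Od n R a, Dm q₀)) (τ : Γ(Od n R b, Dm q₀)) :
    psi hpos (mulSec (Gr n R) (Gr n R) h σ τ) = psi hpos σ * psi hpos τ :=
  psi_eq hpos (isRep_mulSec h (isRep_psi hpos σ) (isRep_psi hpos τ))

/-- The unit section of `O(0)`. -/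
noncomputable def one0 (U : (Proj (Gr n R)).Opens) : Γ(Od n R 0, U) :=
  secOf (Gr n R) (Gr n R) (SetLike.one_mem_graded (Gr n R)) (SetLike.one_mem_graded (Gr n R))
    (fun x _ => one_notMem (Gr n R) x) (by simp)

theorem sval_one0 {U : (Proj (Gr n R)).Opens} (x : U) :
    (show GrTwist.Loc (Gr n R) x.1 from sval (Gr n R) (Gr n R) (one0 U) x) = 1 :=
  Localization.mk_one

theorem smul_eq_mulSec {U : (Proj (Gr n R)).Opens} (r : Γ(Proj (Gr n R), U)) (σ : Γ(Od n R a, U)) :
    r • σ = mulSec (Gr n R) (Gr n R) (show a = a + 0 by omega) σ (r • one0 U) := by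
  refine sval_ext (Gr n R) (Gr n R) fun x => ?_
  rw [sval_mulSec, sval_smul, sval_smul]
  refine congrArg (fun (w : GrTwist.Loc (Gr n R) x.1) => w • sval (Gr n R) (Gr n R) σ x) ?_
  exact ((mul_one _).symm.trans (congrArg (fval (Gr n R) r x * ·) (sval_one0 x).symm))

theorem psi_smul' {q₀ : Fin (n + 1) →₀ ℕ} (hpos : 0 < q₀.degree) (r : Γ(Proj (Gr n R), Dm q₀))
    (σ : Γ(Od n R a, Dm q₀)) :
    psi hpos (r • σ) = psi hpos σ * psi hpos (r • one0 (Dm q₀)) := by
  rw [smul_eq_mulSec, psi_mulSec]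

/-- Every section is a multiple of a section whose expansion is a monomial in the inverted variables. -/
theorem exists_smul_eq {q₀ : Fin (n + 1) →₀ ℕ} (hpos : 0 < q₀.degree) {e : Expo n}
    (hes : ∀ i, q₀ i = 0 → e i = 0) {g : Γ(Od n R a, Dm q₀)} (hg : psi hpos g = T e) (he : deg e = a)
    (σ : Γ(Od n R a, Dm q₀)) : ∃ r : Γ(Proj (Gr n R), Dm q₀), σ = r • g := by
  obtain ⟨τ, hτ⟩ := psi_range (d := 0) hpos (z := psi hpos σ * T (-e)) (by
    rw [show (0 : ℤ) = a + -a by omega]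
    refine mul_T_mem (psi_mem hpos σ) _ (by rw [deg_neg, he]) fun i hi => ?_
    have : q₀ i = 0 := by simpa using hi
    simp [hes i this])
  obtain ⟨r, hr⟩ := (bijective_smul_gen (Gr n R) (SetLike.one_mem_graded (Gr n R)) (SetLike.one_mem_graded (Gr n R))
    (fun x _ => one_notMem (Gr n R) x) (fun x _ => one_notMem (Gr n R) x) (by simp) (one0 (Dm q₀))
    fun y => rfl).2 τ
  refine ⟨r, psi_injective hpos ?_⟩
  rw [psi_smul', show r • one0 (Dm q₀) = τ from hr, hτ, hg, ← mul_assoc, mul_comm (T e), mul_assoc, T_mul,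
    add_neg_cancel, T_zero, mul_one]

/-- Multiplication by a global section of `O(b)`. -/
noncomputable def mulBy (h : c = a + b) (t : Γ(Od n R b, ⊤)) : Od n R a ⟶ Od n R c :=
  ⟨PresheafOfModules.homMk
    { app := fun U => AddCommGrpCat.ofHom
        (AddMonoidHom.mk' (fun σ => mulSec (Gr n R) (Gr n R) h σ
            ((Od n R b).presheaf.map (homOfLE (le_top : U.unop ≤ ⊤)).op t))
          fun σ σ' => (mulPairing (Gr n R) (Gr n R) h).add_left U.unop σ σ' _)
      naturality := fun {U V} i => by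
        refine AddCommGrpCat.ext fun σ => ?_
        refine Eq.symm (((mulPairing (Gr n R) (Gr n R) h).res U.unop V.unop i.unop.le σ _).trans ?_)
        exact congrArg (mulSec (Gr n R) (Gr n R) h _) (pmap_pmap (Od n R b) le_top i.unop.le t) }
    fun U r σ => (mulPairing (Gr n R) (Gr n R) h).smul_left U.unop r σ _⟩

theorem mulBy_app (h : c = a + b) (t : Γ(Od n R b, ⊤)) (U : (Proj (Gr n R)).Opens) (σ : Γ(Od n R a, U)) :
    (mulBy h t).app U σ = mulSec (Gr n R) (Gr n R) h σ ((Od n R b).presheaf.map (homOfLE (le_top : U ≤ ⊤)).op t) :=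
  rfl

theorem exists_mem_supp {q₀ : Fin (n + 1) →₀ ℕ} (hpos : 0 < q₀.degree) : ∃ i, 0 < q₀ i := by
  by_contra hne
  push Not at hne
  rw [Finsupp.degree_eq_sum, Finset.sum_eq_zero fun i _ => Nat.le_zero.1 (hne i)] at hpos
  exact absurd hpos (by simp)

theorem Dm_le_single {q₀ : Fin (n + 1) →₀ ℕ} {i : Fin (n + 1)} (hi : 0 < q₀ i) :
    Dm (R := R) q₀ ≤ Dm (qa (fun _ : Fin 1 => i)) := by
  intro x hx hx'
  apply hx
  have hle : qa (fun _ : Fin 1 => i) ≤ q₀ := fun j => by
    have h1 : qa (fun _ : Fin 1 => i) = Finsupp.single i 1 := by simp [qa]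
    rw [h1, Finsupp.single_apply]
    split_ifs with h
    · subst h; omega
    · omega
  obtain ⟨r, rfl⟩ := le_iff_exists_add.1 hle
  rw [← mon_mul]
  exact x.asHomogeneousIdeal.toIdeal.mul_mem_right _ hx'

theorem psi_res_global {q₀ : Fin (n + 1) →₀ ℕ} (hpos : 0 < q₀.degree) (t : Γ(Od n R a, ⊤)) :
    psi hpos ((Od n R a).presheaf.map (homOfLE (le_top : Dm q₀ ≤ ⊤)).op t) = psiG t := by
  obtain ⟨i, hi⟩ := exists_mem_supp hpos
  rw [psiG_eq i t, ← pmap_pmap (Od n R a) le_top (Dm_le_single hi) t, psi_res]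

/-- The morphism given by a Laurent polynomial. -/
theorem exists_mulHom (h : c = a + b) (y : L n R) (hy : y ∈ allowedSub R b (∅ : Set (Fin (n + 1)))) :
    ∃ φ : Od n R a ⟶ Od n R c, ∀ (q₀ : Fin (n + 1) →₀ ℕ) (hpos : 0 < q₀.degree) (σ : Γ(Od n R a, Dm q₀)),
      psi hpos (φ.app (Dm q₀) σ) = y * psi hpos σ := by
  obtain ⟨t, ht⟩ := psiG_range y hy
  refine ⟨mulBy h t, fun q₀ hpos σ => ?_⟩
  rw [mulBy_app, psi_mulSec, psi_res_global, ht, mul_comm]

theorem qa_single (i j : Fin (n + 1)) (hj : j ≠ i) : qa (fun _ : Fin 1 => i) j = 0 := by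
  simp [qa, hj.symm]

/-- Every morphism between twisting sheaves is multiplication by a Laurent polynomial without poles. -/
theorem exists_hom_eq (hn : n ≠ 0) (φ : Od n R a ⟶ Od n R c) :
    ∃ y ∈ allowedSub R (c - a) (∅ : Set (Fin (n + 1))),
      ∀ (q₀ : Fin (n + 1) →₀ ℕ) (hpos : 0 < q₀.degree) (σ : Γ(Od n R a, Dm q₀)),
        psi hpos (φ.app (Dm q₀) σ) = y * psi hpos σ := by
  classical
  let U : Fin (n + 1) → (Fin (n + 1) →₀ ℕ) := fun i => qa (fun _ : Fin 1 => i)
  have hU : ∀ i, 0 < (U i).degree := fun i => degree_qa_pos _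
  let ge : Fin (n + 1) → Expo n := fun i => Finsupp.single i a
  have hge : ∀ i, deg (ge i) = a := fun i => by simp [deg, ge]
  have hgen : ∀ i, ∃ g : Γ(Od n R a, Dm (U i)), psi (hU i) g = T (ge i) := fun i =>
    psi_range (hU i) fun e he => by
      rw [T, AddMonoidAlgebra.coeff_single, Finsupp.single_apply] at he
      obtain rfl : ge i = e := by
        by_contra h
        exact he (if_neg h)
      refine ⟨hge i, fun j hj => ?_⟩
      have : j ≠ i := fun h => hj (by rw [h, Set.mem_setOf_eq, qa_pos_iff]; exact ⟨0, rfl⟩)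
      simp [ge, this.symm]
  choose g hg using hgen
  let y : Fin (n + 1) → L n R := fun i => psi (hU i) (φ.app (Dm (U i)) (g i)) * T (-ge i)
  have key : ∀ (q₀ : Fin (n + 1) →₀ ℕ) (hpos : 0 < q₀.degree) (i : Fin (n + 1)) (hi : 0 < q₀ i)
      (σ : Γ(Od n R a, Dm q₀)), psi hpos (φ.app (Dm q₀) σ) = y i * psi hpos σ := by
    intro q₀ hpos i hi σ
    let g' := (Od n R a).presheaf.map (homOfLE (Dm_le_single (R := R) hi)).op (g i)
    have hg' : psi hpos g' = T (ge i) := (psi_res (hU i) hpos _ (g i)).trans (hg i)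
    obtain ⟨r, rfl⟩ := exists_smul_eq hpos (fun j hj => by
      have : i ≠ j := fun h => by subst h; omega
      simp [ge, this]) hg' (hge i) σ
    have hφ : φ.app (Dm q₀) g' = (Od n R c).presheaf.map (homOfLE (Dm_le_single (R := R) hi)).op (φ.app (Dm (U i)) (g i)) :=
      ConcreteCategory.congr_hom (φ.mapPresheaf.naturality (homOfLE (Dm_le_single (R := R) hi)).op) (g i)
    rw [φ.app_smul r g', psi_smul', psi_smul' (σ := g'), hφ, psi_res (hU i) hpos, hg']
    have : y i * T (ge i) = psi (hU i) (φ.app (Dm (U i)) (g i)) := by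
      simp [y, mul_assoc, T_mul, T_zero]
    rw [← mul_assoc, this]
  have hall : ∀ i j, y i = y j := fun i j => by
    let q₀ : Fin (n + 1) →₀ ℕ := qa ![i, j]
    have hpos : 0 < q₀.degree := degree_qa_pos _
    have hi : 0 < q₀ i := (qa_pos_iff _ _).2 ⟨0, rfl⟩
    have hj : 0 < q₀ j := (qa_pos_iff _ _).2 ⟨1, rfl⟩
    let g' := (Od n R a).presheaf.map (homOfLE (Dm_le_single (R := R) hi)).op (g i)
    have hg' : psi hpos g' = T (ge i) := (psi_res (hU i) hpos _ (g i)).trans (hg i)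
    have h1 := (key q₀ hpos i hi g').symm.trans (key q₀ hpos j hj g')
    rw [hg'] at h1
    exact T_mul_cancel _ _ _ h1
  refine ⟨y 0, fun e he => ?_, fun q₀ hpos σ => ?_⟩
  · have hm : ∀ i, e ∈ allowed (c - a) {j | 0 < U i j} := fun i => by
      have h : y i ∈ allowedSub R (c + -a) {j | 0 < U i j} :=
        mul_T_mem (psi_mem (hU i) _) _ (by rw [deg_neg, hge]) fun j hj => by
          have : i ≠ j := fun h => hj (by rw [← h, Set.mem_setOf_eq, qa_pos_iff]; exact ⟨0, rfl⟩)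
          simp [ge, this]
      rw [← sub_eq_add_neg] at h
      exact h e (hall 0 i ▸ he)
    refine ⟨(hm 0).1, fun j _ => ?_⟩
    obtain ⟨k, hk⟩ : ∃ k : Fin (n + 1), k ≠ j :=
      Fintype.exists_ne_of_one_lt_card (by simp only [Fintype.card_fin]; omega) j
    exact (hm k).2 j (by simp [U, qa_single k j hk.symm])
  · obtain ⟨i, hi⟩ := exists_mem_supp hpos
    rw [hall 0 i]
    exact key q₀ hpos i hi σ

end Groth.Agent.H17.PnDual
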