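import Groth.Agent.H17.PnDual.MulHom
import Groth.Agent.H10Coh.Pn.TopShift

/-!
# Morphisms of twisting sheaves on top cohomology
-/

universe u

open CategoryTheory AlgebraicGeometry TopologicalSpace Opposite MvPolynomial
open Groth.Agent.H15Site Groth.Agent.H11Tilde Groth.Agent.H10Coh Groth.Agent.H10Coh.Pn

namespace Groth.Agent.H17.PnDual

attribute [local instance 10000] hasSheafifyAb hasWeakSheafifyAb hasExtAb enoughInjAb

variable {n p : ℕ} {R : Type u} [CommRing R] {a c : ℤ}

/-- `φ` is multiplication by the Laurent polynomial `y`. -/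
def IsMul (φ : Od n R a ⟶ Od n R c) (y : L n R) : Prop :=
  ∀ (q₀ : Fin (n + 1) →₀ ℕ) (hpos : 0 < q₀.degree) (σ : Γ(Od n R a, Dm q₀)),
    psi hpos (φ.app (Dm q₀) σ) = y * psi hpos σ

/-- No negative exponents. -/
def NoPoles (y : L n R) : Prop := ∀ e, y.coeff e ≠ 0 → ∀ i, 0 ≤ e i

theorem psiA_hom {φ : Od n R a ⟶ Od n R c} {y : L n R} (hφ : IsMul φ y) {q : ℕ}
    (t : Fin (q + 1) → ULift.{u} (Fin (n + 1)))
    (σ : (Od n R a).presheaf.obj (op (CechTop.cap (X := (Proj (Gr n R)).toTopCat) (Us n R) t))) :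
    psiA t ((((shF _).map φ).hom.app (op (CechTop.cap (X := (Proj (Gr n R)).toTopCat) (Us n R) t))).hom σ) =
      y * psiA t σ := by
  refine Eq.trans ?_ (hφ _ (degree_qa_pos (ULift.down ∘ t))
    (CechTop.res (Od n R a).presheaf (Dm_qa t).le σ))
  refine congrArg (psi (degree_qa_pos (ULift.down ∘ t))) ?_
  exact (ConcreteCategory.congr_hom (φ.mapPresheaf.naturality (homOfLE (Dm_qa (R := R) t).le).op) σ).symm

/-- The action on cocycles. -/
noncomputable abbrev homZ (φ : Od n R a ⟶ Od n R c)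
    (z : CechCls.Zc (X := (Proj (Gr n R)).toTopCat) (Us n R) (Od n R a).presheaf p) :
    CechCls.Zc (X := (Proj (Gr n R)).toTopCat) (Us n R) (Od n R c).presheaf p :=
  CechCls.mapZ (Us n R) (Od n R a).presheaf ((shF _).map φ).hom p z

theorem coef_homZ {φ : Od n R a ⟶ Od n R c} {y : L n R} (hφ : IsMul φ y)
    (z : CechCls.Zc (X := (Proj (Gr n R)).toTopCat) (Us n R) (Od n R a).presheaf p)
    (t : Fin (p + 2) → ULift.{u} (Fin (n + 1))) : coef t (homZ φ z).1 = y * coef t z.1 := by
  refine Eq.trans ?_ (psiA_hom hφ t _)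
  exact congrArg (psiA t) (CechTop.proj_mapC (Us n R) (Od n R a).presheaf ((shF _).map φ).hom z.1 t)

theorem badPart_add (z w : L n R) : badPart R (z + w) = badPart R z + badPart R w := by
  classical
  refine AddMonoidAlgebra.ext (Finsupp.ext fun e => ?_)
  simp only [badPart_coeff, AddMonoidAlgebra.coeff_add, Finsupp.add_apply]
  split_ifs <;> simp

/-- Multiplication by a polynomial only sees the part with negative exponents. -/
theorem badPart_mul_badPart {y : L n R} (hy : NoPoles y) (z : L n R) :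
    badPart R (y * badPart R z) = badPart R (y * z) := by
  classical
  refine Eq.trans ?_ (congrArg (fun w => badPart R (y * w)) (add_sub_cancel (badPart R z) z))
  rw [mul_add, badPart_add, left_eq_add]
  refine AddMonoidAlgebra.ext (Finsupp.ext fun e => ?_)
  rw [badPart_coeff]
  split_ifs with hb
  · by_contra h
    obtain ⟨f, hf, g, hg, rfl⟩ := Finset.mem_add.1 (AddMonoidAlgebra.support_coeff_mul_subset _ _
      (Finsupp.mem_support_iff.2 h))
    rw [Finsupp.mem_support_iff, AddMonoidAlgebra.coeff_sub, Finsupp.sub_apply, badPart_coeff] at hg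
    by_cases hg' : Bad g
    · exact hg (by rw [if_pos hg', sub_self])
    · refine hg' fun i => ?_
      have := hy f (Finsupp.mem_support_iff.1 hf) i
      have h2 := hb i
      simp at h2
      omega
  · rfl

theorem resid_homZ {φ : Od (p + 1) R a ⟶ Od (p + 1) R c} {y : L (p + 1) R} (hφ : IsMul φ y) (hy : NoPoles y)
    (z : CechCls.Zc (X := (Proj (Gr (p + 1) R)).toTopCat) (Us (p + 1) R) (Od (p + 1) R a).presheaf p) :
    (resid p R c (homZ φ z)).1 = badPart R (y * (resid p R a z).1) := by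
  change badPart R (coef (idT p) (homZ φ z).1) = badPart R (y * badPart R (coef (idT p) z.1))
  rw [coef_homZ hφ, badPart_mul_badPart hy]

theorem topEquivBad_hom {φ : Od (p + 1) R a ⟶ Od (p + 1) R c} {y : L (p + 1) R} (hφ : IsMul φ y)
    (hy : NoPoles y) (x : HnM (Od (p + 1) R a) (p + 1) ⊤) :
    (topEquivBad p R c (LerayNat.hmap ((shF _).map φ) (p + 1) ⊤ x)).1 =
      badPart R (y * (topEquivBad p R a x).1) := by
  obtain ⟨w, rfl⟩ := ((lerayPn (p + 1) (p + 1) R).e (sh (Od (p + 1) R a)) (acy_Od R a)).surjective x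
  rw [← (lerayPn (p + 1) (p + 1) R).nat ((shF _).map φ) (acy_Od R a) (acy_Od R c) w,
    topEquivBad_e, topEquivBad_e]
  obtain ⟨z, rfl⟩ := CechCls.cls_surjective (X := (Proj (Gr (p + 1) R)).toTopCat) (Us (p + 1) R)
    (Od (p + 1) R a).presheaf p w
  refine (congrArg Subtype.val ((congrArg (clsToBad p R c) (CechCls.cls_mapZ (Us (p + 1) R)
    (Od (p + 1) R a).presheaf ((shF _).map φ).hom p z)).trans (clsToBad_cls p R c _))).trans ?_
  refine (resid_homZ hφ hy z).trans ?_
  exact congrArg (fun v : ↥(badSub R a (p + 1)) => badPart R (y * v.1)) (clsToBad_cls p R a z).symm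

/-- A morphism is determined by its Laurent polynomial. -/
theorem IsMul.ext {φ φ' : Od n R a ⟶ Od n R c} {y : L n R} (h : IsMul φ y) (h' : IsMul φ' y) : φ = φ' := by
  apply Scheme.Modules.hom_ext
  intro U
  ext σ
  let N : TopCat.Sheaf AddCommGrpCat _ := ⟨(Od n R c).presheaf, (Od n R c).isSheaf⟩
  let D : ULift.{u} (Fin (n + 1)) → (Fin (n + 1) →₀ ℕ) := fun i => qa (fun _ : Fin 1 => i.down)
  refine N.eq_of_locally_eq' (ι := ULift.{u} (Fin (n + 1))) (fun i => U ⊓ Dm (D i)) U
    (fun i => homOfLE inf_le_left) ?_ _ _ fun i => ?_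
  · intro x hx
    obtain ⟨i, hi⟩ := Opens.mem_iSup.1 ((iSup_Us (n := n) (R := R)).ge (show x ∈ ⊤ by trivial))
    refine Opens.mem_iSup.2 ⟨i, hx, ?_⟩
    exact (Dm_qa (fun _ : Fin 1 => i)).ge ((le_iInf fun _ => le_rfl : Us n R i ≤ _) hi)
  · change (Od n R c).presheaf.map _ (φ.app U σ) = (Od n R c).presheaf.map _ (φ'.app U σ)
    let V := U ⊓ Dm (R := R) (D i)
    have e1 := ConcreteCategory.congr_hom (φ.mapPresheaf.naturality (homOfLE (inf_le_left : V ≤ U)).op) σ
    have e2 := ConcreteCategory.congr_hom (φ'.mapPresheaf.naturality (homOfLE (inf_le_left : V ≤ U)).op) σ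
    refine e1.symm.trans (Eq.trans ?_ e2)
    have hX : (X i.down : MvPolynomial (Fin (n + 1)) R) ∈ Gr n R 1 := MvPolynomial.isHomogeneous_X R i.down
    have hXp : ∀ m : ℕ, (X i.down ^ m : MvPolynomial (Fin (n + 1)) R) ∈ Gr n R m := fun m => by
      simpa using SetLike.pow_mem_graded m hX
    have hne : ∀ m : ℕ, ∀ x ∈ Dm (R := R) (D i),
        (X i.down ^ m : MvPolynomial (Fin (n + 1)) R) ∉ x.asHomogeneousIdeal := fun m x hx hx' => by
      have hxi : x ∈ Us n R i := (iInf_le (fun _ : Fin 1 => Us n R i) 0) ((Dm_qa (fun _ : Fin 1 => i)).le hx)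
      exact hxi (x.isPrime.mem_of_pow_mem m hx')
    have hdeg : (a.toNat : ℤ) = (-a).toNat + a := by omega
    let g : Γ(Od n R a, Dm (D i)) := secOf (Gr n R) (Gr n R) (hXp a.toNat) (hXp (-a).toNat) (hne _) hdeg
    have hg : φ.app (Dm (D i)) g = φ'.app (Dm (D i)) g :=
      psi_injective (degree_qa_pos _) ((h _ _ g).trans (h' _ _ g).symm)
    let gV := (Od n R a).presheaf.map (homOfLE (inf_le_right : V ≤ Dm (D i))).op g
    obtain ⟨r, hr⟩ := (bijective_smul_gen (Gr n R) (V := V) (hXp a.toNat) (hXp (-a).toNat)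
      (fun x hx => hne _ x hx.2) (fun x hx => hne _ x hx.2) hdeg gV fun x => rfl).2
      ((Od n R a).presheaf.map (homOfLE (inf_le_left : V ≤ U)).op σ)
    change φ.app V _ = φ'.app V _
    refine (congrArg (φ.app V) hr.symm).trans (Eq.trans ?_ (congrArg (φ'.app V) hr))
    change φ.app V (r • gV) = φ'.app V (r • gV)
    rw [φ.app_smul, φ'.app_smul]
    refine congrArg (r • ·) ?_
    have g1 := ConcreteCategory.congr_hom (φ.mapPresheaf.naturality (homOfLE (inf_le_right : V ≤ Dm (D i))).op) g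
    have g2 := ConcreteCategory.congr_hom (φ'.mapPresheaf.naturality (homOfLE (inf_le_right : V ≤ Dm (D i))).op) g
    refine g1.trans (Eq.trans ?_ g2.symm)
    exact congrArg ((Od n R c).presheaf.map (homOfLE (inf_le_right : V ≤ Dm (D i))).op) hg

/-- The exponent `(-1, …, -1)`. -/
noncomputable def e0 (n : ℕ) : Expo n := Finsupp.equivFunOnFinite.symm fun _ => -1

theorem e0_apply (i : Fin (n + 1)) : e0 n i = -1 := rfl

theorem deg_e0 : deg (e0 n) = -((n : ℤ) + 1) := by simp [deg, e0_apply]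

theorem bad_e0 : Bad (e0 n) := fun i => by rw [e0_apply]; norm_num

theorem noPoles_of_mem {b : ℤ} {y : L n R} (hy : y ∈ allowedSub R b (∅ : Set (Fin (n + 1)))) : NoPoles y :=
  fun e he i => (hy e he).2 i (Set.notMem_empty i)

theorem eq_e0_of_bad {e : Expo n} (he : Bad e) (hd : deg e = -((n : ℤ) + 1)) : e = e0 n := by
  refine Finsupp.ext fun i => ?_
  have h := (Finset.sum_eq_zero_iff_of_nonneg (f := fun j => -e j - 1) (s := Finset.univ)
    (fun j _ => by have := he j; omega)).1 (by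
      rw [deg] at hd
      simp [Finset.sum_sub_distrib, Finset.sum_neg_distrib, hd]
      ) i (Finset.mem_univ i)
  rw [e0_apply]; omega

/-- Coefficient at `(-1, …, -1)`. -/
noncomputable def trBad (n : ℕ) (R : Type u) [CommRing R] {d : ℤ} : ↥(badSub R d n) →ₗ[R] R where
  toFun z := z.1.coeff (e0 n)
  map_add' z w := by simp
  map_smul' r z := by simp

theorem trBad_bijective : Function.Bijective (trBad n R (d := -((n : ℤ) + 1))) := by
  classical
  refine ⟨fun z w h => Subtype.ext (AddMonoidAlgebra.ext (Finsupp.ext fun e => ?_)), fun r => ?_⟩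
  · by_cases he : e = e0 n
    · subst he; exact h
    · have hz : ∀ v : ↥(badSub R (-((n : ℤ) + 1)) n), v.1.coeff e = 0 := fun v => by
        by_contra hv
        exact he (eq_e0_of_bad (v.2 e hv).1 (v.2 e hv).2)
      rw [hz z, hz w]
  · refine ⟨⟨AddMonoidAlgebra.single (e0 n) r, fun e he => ?_⟩, ?_⟩
    · obtain rfl : e0 n = e := by
        by_contra h
        exact he (by rw [AddMonoidAlgebra.coeff_single, Finsupp.single_apply, if_neg h])
      exact ⟨bad_e0, deg_e0⟩
    · change (AddMonoidAlgebra.single (e0 n) r).coeff (e0 n) = r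
      simp

/-- The finitely many exponents with all entries negative in a given degree. -/
noncomputable def badExps (n : ℕ) (d : ℤ) : Finset (Expo n) :=
  (Fintype.piFinset fun _ : Fin (n + 1) => Finset.Icc d (-1)).image Finsupp.equivFunOnFinite.symm

theorem mem_badExps {d : ℤ} {e : Expo n} (he : Bad e) (hd : deg e = d) : e ∈ badExps n d := by
  classical
  refine Finset.mem_image.2 ⟨fun i => e i, Fintype.mem_piFinset.2 fun i => Finset.mem_Icc.2 ⟨?_, ?_⟩,
    Finsupp.ext fun i => rfl⟩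
  · rw [← hd, deg, ← Finset.sum_erase_add _ _ (Finset.mem_univ i)]
    have : ∑ j ∈ Finset.univ.erase i, e j ≤ 0 := Finset.sum_nonpos fun j _ => by have := he j; omega
    omega
  · have := he i; omega

/-- Linear forms on the residues are multiplications followed by the coefficient at `(-1, …, -1)`. -/
theorem existsUnique_mul {d : ℤ} (ψ : ↥(badSub R d n) →ₗ[R] R) :
    ∃! y : L n R, y ∈ allowedSub R (-((n : ℤ) + 1) - d) (∅ : Set (Fin (n + 1))) ∧
      ∀ z : ↥(badSub R d n), ψ z = (y * z.1).coeff (e0 n) := by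
  classical
  let S := (badExps n d).filter fun e => Bad e ∧ deg e = d
  have hS : ∀ e, e ∈ S ↔ Bad e ∧ deg e = d := fun e =>
    ⟨fun h => (Finset.mem_filter.1 h).2, fun h => Finset.mem_filter.2 ⟨mem_badExps h.1 h.2, h⟩⟩
  have hT : ∀ e ∈ S, T (R := R) e ∈ badSub R d n := fun e he f hf => by
    obtain rfl : e = f := by
      by_contra h
      exact hf (by rw [T, AddMonoidAlgebra.coeff_single, Finsupp.single_apply, if_neg h])
    exact (hS e).1 he
  let w : Expo n → R := fun e => if he : e ∈ S then ψ ⟨T e, hT e he⟩ else 0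
  let y : L n R := ∑ e ∈ S, w e • T (e0 n - e)
  have hyc : ∀ e ∈ S, y.coeff (e0 n - e) = w e := fun e he => by
    rw [show y = ∑ e ∈ S, w e • T (e0 n - e) from rfl]
    rw [AddMonoidAlgebra.coeff_sum, Finsupp.finset_sum_apply, Finset.sum_eq_single e]
    · simp [T]
    · intro f _ hf
      simp [T, AddMonoidAlgebra.coeff_single, Finsupp.single_apply, hf]
    · intro h; exact absurd he h
  have key : ∀ (v : L n R) (z : ↥(badSub R d n)),
      (v * z.1).coeff (e0 n) = ∑ e ∈ S, z.1.coeff e * v.coeff (e0 n - e) := fun v z => by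
    have hz : z.1 = ∑ e ∈ S, z.1.coeff e • T e := by
      refine AddMonoidAlgebra.ext (Finsupp.ext fun f => ?_)
      rw [AddMonoidAlgebra.coeff_sum, Finsupp.finset_sum_apply]
      simp only [T, AddMonoidAlgebra.coeff_smul, Finsupp.smul_apply, AddMonoidAlgebra.coeff_single,
        Finsupp.single_apply, smul_eq_mul, mul_ite, mul_one, mul_zero, Finset.sum_ite_eq']
      split_ifs with hf
      · rfl
      · by_contra h
        exact hf ((hS f).2 (z.2 f h))
    conv_lhs => rw [hz]
    rw [Finset.mul_sum, AddMonoidAlgebra.coeff_sum, Finsupp.finset_sum_apply]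
    refine Finset.sum_congr rfl fun e _ => ?_
    rw [mul_smul_comm, AddMonoidAlgebra.coeff_smul, Finsupp.smul_apply, smul_eq_mul,
      ← mul_T_coeff v e (e0 n - e), sub_add_cancel]
  have hψ : ∀ z : ↥(badSub R d n), ψ z = ∑ e ∈ S, z.1.coeff e * w e := fun z => by
    have hz : z = ∑ e ∈ S.attach, z.1.coeff e.1 • (⟨T e.1, hT e.1 e.2⟩ : ↥(badSub R d n)) := by
      refine Subtype.ext ?_
      rw [Submodule.coe_sum]
      simp only [Submodule.coe_smul]
      rw [Finset.sum_attach S fun e => z.1.coeff e • T (R := R) e]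
      refine AddMonoidAlgebra.ext (Finsupp.ext fun f => ?_)
      rw [AddMonoidAlgebra.coeff_sum, Finsupp.finset_sum_apply]
      simp only [T, AddMonoidAlgebra.coeff_smul, Finsupp.smul_apply, AddMonoidAlgebra.coeff_single,
        Finsupp.single_apply, smul_eq_mul, mul_ite, mul_one, mul_zero, Finset.sum_ite_eq']
      split_ifs with hf
      · rfl
      · by_contra h
        exact hf ((hS f).2 (z.2 f h))
    conv_lhs => rw [hz]
    rw [map_sum, ← Finset.sum_attach S fun e => z.1.coeff e * w e]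
    refine Finset.sum_congr rfl fun e _ => ?_
    rw [map_smul, smul_eq_mul, show w e.1 = _ from dif_pos e.2]
  refine ⟨y, ⟨?_, fun z => ?_⟩, ?_⟩
  · refine Submodule.sum_mem _ fun e he => Submodule.smul_mem _ _ fun f hf => ?_
    obtain rfl : e0 n - e = f := by
      by_contra h
      exact hf (by rw [T, AddMonoidAlgebra.coeff_single, Finsupp.single_apply, if_neg h])
    refine ⟨by rw [sub_eq_add_neg, deg_add, deg_neg, deg_e0, ((hS e).1 he).2]; ring, fun i _ => ?_⟩
    have := ((hS e).1 he).1 i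
    rw [Finsupp.sub_apply, e0_apply]; omega
  · rw [key, hψ]
    exact Finset.sum_congr rfl fun e he => by rw [hyc e he]
  · rintro v ⟨hv, hv'⟩
    refine AddMonoidAlgebra.ext (Finsupp.ext fun f => ?_)
    by_cases hf : (∀ i, 0 ≤ f i) ∧ deg f = -((n : ℤ) + 1) - d
    · have he : e0 n - f ∈ S := (hS _).2 ⟨fun i => by
        have := hf.1 i
        rw [Finsupp.sub_apply, e0_apply]; omega, by rw [sub_eq_add_neg, deg_add, deg_neg, deg_e0, hf.2]; ring⟩
      have h1 := hv' ⟨T (e0 n - f), hT _ he⟩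
      have h3 : (v * T (e0 n - f)).coeff (f + (e0 n - f)) = v.coeff f := mul_T_coeff v _ f
      rw [add_sub_cancel] at h3
      rw [h3] at h1
      rw [← h1, show y.coeff f = y.coeff (e0 n - (e0 n - f)) by rw [sub_sub_cancel], hyc _ he]
      exact (show w (e0 n - f) = _ from dif_pos he).symm
    · have hv0 : v.coeff f = 0 := by
        by_contra h
        exact hf ⟨fun i => (hv f h).2 i (Set.notMem_empty i), (hv f h).1⟩
      rw [hv0]
      symm
      rw [show y = ∑ e ∈ S, w e • T (e0 n - e) from rfl, AddMonoidAlgebra.coeff_sum, Finsupp.finset_sum_apply]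
      refine Finset.sum_eq_zero fun e he => ?_
      have hne : e0 n - e ≠ f := fun h => hf (by
        subst h
        exact ⟨fun i => by have := ((hS e).1 he).1 i; rw [Finsupp.sub_apply, e0_apply]; omega,
          by rw [sub_eq_add_neg, deg_add, deg_neg, deg_e0, ((hS e).1 he).2]; ring⟩)
      simp [T, AddMonoidAlgebra.coeff_single, Finsupp.single_apply, hne]

/-- The trace on the top cohomology of `O(-p-2)`. -/
noncomputable def trTop (p : ℕ) (R : Type u) [CommRing R] (d : ℤ) :
    letI : (Proj (Gr (p + 1) R)).Over (Spec (CommRingCat.of R)) := ⟨toS (p + 1) R⟩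
    Coh.HH (Proj (Gr (p + 1) R)) (Od (p + 1) R d) (p + 1) →ₗ[R] R :=
  letI : (Proj (Gr (p + 1) R)).Over (Spec (CommRingCat.of R)) := ⟨toS (p + 1) R⟩
  (trBad (p + 1) R).comp (HHtopBad p R d)

theorem trTop_bijective (p : ℕ) (R : Type u) [CommRing R] :
    Function.Bijective (trTop p R (-(((p + 1 : ℕ) : ℤ) + 1))) :=
  trBad_bijective.comp (HHtopBad_bijective p R _)

theorem trTop_hom {φ : Od (p + 1) R a ⟶ Od (p + 1) R c} {y : L (p + 1) R} (hφ : IsMul φ y)
    (hy : NoPoles y) (x : Coh.HH (Proj (Gr (p + 1) R)) (Od (p + 1) R a) (p + 1)) :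
    trTop p R c (Sheaf.H.map ((shF _).map φ) (p + 1) x) =
      (y * (HHtopBad p R a x).1).coeff (e0 (p + 1)) := by
  change (topEquivBad p R c (HHEquiv _ (p + 1) _)).1.coeff (e0 (p + 1)) = _
  have h := topEquivBad_hom hφ hy (HHEquiv _ (p + 1) x)
  rw [show HHEquiv (Od (p + 1) R c) (p + 1) (Sheaf.H.map ((shF _).map φ) (p + 1) x) =
    LerayNat.hmap ((shF _).map φ) (p + 1) ⊤ (HHEquiv _ (p + 1) x) from
    (topEquiv_map ((shF _).map φ) (p + 1) x).trans (LerayNat.hmap_apply _ _ _ _).symm, h]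
  classical
  rw [badPart_coeff, if_pos bad_e0]
  rfl

/-- Serre's pairing for twisting sheaves. -/
theorem existsUnique_hom (p : ℕ) (R : Type u) [CommRing R] (a : ℤ) :
    letI : (Proj (Gr (p + 1) R)).Over (Spec (CommRingCat.of R)) := ⟨toS (p + 1) R⟩
    ∀ ψ : Coh.HH (Proj (Gr (p + 1) R)) (Od (p + 1) R a) (p + 1) →ₗ[R] R,
    ∃! φ : Od (p + 1) R a ⟶ Od (p + 1) R (-(((p + 1 : ℕ) : ℤ) + 1)),
      ∀ x, ψ x = trTop p R _ (Sheaf.H.map ((shF _).map φ) (p + 1) x) := by
  letI : (Proj (Gr (p + 1) R)).Over (Spec (CommRingCat.of R)) := ⟨toS (p + 1) R⟩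
  intro ψ
  let E := LinearEquiv.ofBijective _ (HHtopBad_bijective p R a)
  obtain ⟨y, ⟨hy, hyψ⟩, huniq⟩ := existsUnique_mul (ψ.comp E.symm.toLinearMap)
  obtain ⟨φ, hφ⟩ := exists_mulHom (c := -(((p + 1 : ℕ) : ℤ) + 1)) (a := a) (b := -(((p + 1 : ℕ) : ℤ) + 1) - a)
    (by omega) y hy
  refine ⟨φ, fun x => ?_, fun φ' hφ' => ?_⟩
  · rw [trTop_hom hφ (noPoles_of_mem hy)]
    refine Eq.trans ?_ (hyψ (HHtopBad p R a x))
    exact (congrArg ψ (E.symm_apply_apply x)).symm
  · obtain ⟨y', hy', hy'φ⟩ := exists_hom_eq (Nat.succ_ne_zero p) φ'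
    obtain rfl : y' = y := huniq y' ⟨hy', fun z => by
      obtain ⟨x, rfl⟩ := (HHtopBad_bijective p R a).2 z
      refine Eq.trans ?_ (trTop_hom hy'φ (noPoles_of_mem hy') x)
      exact (congrArg ψ (E.symm_apply_apply x)).trans (hφ' x)⟩
    exact IsMul.ext hy'φ hφ

end Groth.Agent.H17.PnDual
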